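import Mathlib.AlgebraicTopology.DoldKan.Normalized
import Mathlib.AlgebraicTopology.DoldKan.Degeneracies
import Mathlib.AlgebraicTopology.DoldKan.Decomposition
import Mathlib.AlgebraicTopology.DoldKan.FunctorN
import Mathlib.AlgebraicTopology.SimplicialObject.Basic
import Mathlib.CategoryTheory.Subobject.Limits
import Mathlib.CategoryTheory.Abelian.Basic
import Mathlib.Data.Fintype.Sigma
import Mathlib.Data.Finite.Sigma
import Mathlib.AlgebraicTopology.SimplexCategory.Basic

/-! Simplicial objects of an abelian category generated in degrees `≤ n`; skeleta. -/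

set_option autoImplicit false

open CategoryTheory CategoryTheory.Limits Opposite AlgebraicTopology AlgebraicTopology.DoldKan
open scoped Simplicial

namespace GrothLib.SimpGen

universe v u

variable {A : Type u} [Category.{v} A] [Abelian A]

theorem factors_iff {X Y : A} (S : Subobject Y) (f : X ⟶ Y) :
    S.Factors f ↔ f ≫ cokernel.π S.arrow = 0 := by
  constructor
  · intro h
    rw [← S.factorThru_arrow f h, Category.assoc, cokernel.condition, comp_zero]
  · intro h
    exact (S.factors_iff f).2 ⟨Abelian.monoLift S.arrow f h, Abelian.monoLift_comp S.arrow f h⟩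

theorem image_le_of_factors {X Y : A} {S : Subobject Y} {f : X ⟶ Y} (h : S.Factors f) :
    imageSubobject f ≤ S :=
  imageSubobject_le f (S.factorThru f h) (S.factorThru_arrow f h)

theorem factors_of_image_le {X Y : A} {S : Subobject Y} {f : X ⟶ Y} (h : imageSubobject f ≤ S) :
    S.Factors f :=
  Subobject.factors_of_le f h
    ((Subobject.factors_iff _ f).2 ⟨factorThruImageSubobject f, imageSubobject_arrow_comp f⟩)

/-- A morphism killing all generators kills their join. -/
theorem lub_comp_eq_zero {ι : Type*} {Y Z : A} {W : ι → A} (g : ∀ i, W i ⟶ Y) {S : Subobject Y}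
    (hS : IsLUB (Set.range fun i => imageSubobject (g i)) S) (f : Y ⟶ Z) (h : ∀ i, g i ≫ f = 0) :
    S.arrow ≫ f = 0 := by
  have hle : S ≤ kernelSubobject f := hS.2 (by
    rintro _ ⟨i, rfl⟩
    exact image_le_of_factors (kernelSubobject_factors f _ (h i)))
  rw [← Subobject.ofLE_arrow hle, Category.assoc, kernelSubobject_arrow_comp, comp_zero]

theorem gen_factors {ι : Type*} {Y : A} {W : ι → A} (g : ∀ i, W i ⟶ Y) {S : Subobject Y}
    (hS : IsLUB (Set.range fun i => imageSubobject (g i)) S) (i : ι) : S.Factors (g i) :=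
  factors_of_image_le (hS.1 ⟨i, rfl⟩)

/-- Generators of `U` in degree `m` coming from degrees `≤ n`. -/
abbrev Idx (n m : ℕ) := Σ i : Fin (n + 1), (SimplexCategory.mk m ⟶ SimplexCategory.mk i)

abbrev genMap (U : SimplicialObject A) {n m : ℕ} (φ : Idx n m) :
    U.obj (op (SimplexCategory.mk φ.1)) ⟶ U.obj (op (SimplexCategory.mk m)) :=
  U.map φ.2.op

theorem exists_lub {ι : Type*} [Finite ι] {Y : A} (s : ι → Subobject Y) :
    ∃ S, IsLUB (Set.range s) S := by
  classical
  haveI := Fintype.ofFinite ι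
  refine ⟨Finset.univ.sup s, ?_, fun T hT => Finset.sup_le fun i _ => hT ⟨i, rfl⟩⟩
  rintro _ ⟨i, rfl⟩
  exact Finset.le_sup (Finset.mem_univ i)

/-- A family of subobjects stable under the simplicial operators is a simplicial subobject. -/
theorem exists_sub (U : SimplicialObject A) (W : ∀ m : ℕ, Subobject (U.obj (op (SimplexCategory.mk m))))
    (hW : ∀ (m m' : ℕ) (ψ : SimplexCategory.mk m' ⟶ SimplexCategory.mk m),
      (W m').Factors ((W m).arrow ≫ U.map ψ.op)) :
    ∃ (V : SimplicialObject A) (ι : V ⟶ U), ∀ m : ℕ, Mono (ι.app (op (SimplexCategory.mk m))) ∧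
      ∀ {T : A} (f : T ⟶ U.obj (op (SimplexCategory.mk m))), (W m).Factors f ↔
        ∃ g : T ⟶ V.obj (op (SimplexCategory.mk m)), g ≫ ι.app (op (SimplexCategory.mk m)) = f := by
  let mp : ∀ {x y : SimplexCategoryᵒᵖ} (f : x ⟶ y),
      ((W x.unop.len : Subobject _) : A) ⟶ ((W y.unop.len : Subobject _) : A) :=
    fun {x y} f => (W y.unop.len).factorThru ((W x.unop.len).arrow ≫ U.map f) (hW _ _ f.unop)
  have hmp : ∀ {x y : SimplexCategoryᵒᵖ} (f : x ⟶ y),
      mp f ≫ (W y.unop.len).arrow = (W x.unop.len).arrow ≫ U.map f :=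
    fun f => Subobject.factorThru_arrow _ _ _
  let V : SimplicialObject A :=
    { obj := fun x => ((W x.unop.len : Subobject _) : A)
      map := fun f => mp f
      map_id := fun x => by
        apply (cancel_mono (W x.unop.len).arrow).1
        rw [hmp, Category.id_comp]
        exact (congrArg _ (U.map_id x)).trans (Category.comp_id _)
      map_comp := fun {x y z} f g => by
        apply (cancel_mono (W z.unop.len).arrow).1
        rw [hmp, Category.assoc, hmp, ← Category.assoc, hmp, Category.assoc]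
        exact congrArg _ (U.map_comp f g) }
  refine ⟨V, { app := fun x => (W x.unop.len).arrow, naturality := fun x y f => hmp f }, fun m => ?_⟩
  exact ⟨inferInstanceAs (Mono (W m).arrow), fun f => (W m).factors_iff f⟩

theorem eq_top_of_comp_eq_id {Y : A} {S : Subobject Y} (h : S.Factors (𝟙 Y)) : S = ⊤ := by
  haveI : IsSplitEpi S.arrow := ⟨⟨S.factorThru _ h, S.factorThru_arrow _ h⟩⟩
  haveI : IsIso S.arrow := isIso_of_mono_of_isSplitEpi _
  exact Subobject.eq_top_of_isIso_arrow S

theorem stable (U : SimplicialObject A) (n : ℕ)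
    (U' : ∀ m : ℕ, Subobject (U.obj (op (SimplexCategory.mk m))))
    (hU' : ∀ m : ℕ, IsLUB (Set.range fun φ : Idx n m => imageSubobject (genMap U φ)) (U' m))
    (m m' : ℕ) (ψ : SimplexCategory.mk m' ⟶ SimplexCategory.mk m) :
    (U' m').Factors ((U' m).arrow ≫ U.map ψ.op) := by
  rw [factors_iff, Category.assoc]
  refine lub_comp_eq_zero _ (hU' m) _ fun φ => ?_
  rw [← Category.assoc, ← factors_iff, show genMap U φ ≫ U.map ψ.op = genMap U (⟨φ.1, ψ ≫ φ.2⟩ : Idx n m') by
    simp [genMap]]
  exact gen_factors _ (hU' m') _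

theorem eq_top_le (U : SimplicialObject A) (n : ℕ)
    (U' : ∀ m : ℕ, Subobject (U.obj (op (SimplexCategory.mk m))))
    (hU' : ∀ m : ℕ, IsLUB (Set.range fun φ : Idx n m => imageSubobject (genMap U φ)) (U' m))
    (i : ℕ) (hi : i ≤ n) : U' i = ⊤ := by
  refine eq_top_of_comp_eq_id ?_
  have h := gen_factors _ (hU' i) (⟨⟨i, Nat.lt_succ_of_le hi⟩, 𝟙 _⟩ : Idx n i)
  rwa [show genMap U (⟨⟨i, Nat.lt_succ_of_le hi⟩, 𝟙 _⟩ : Idx n i) = 𝟙 _ from U.map_id _] at h

theorem inf_objX_eq_bot (U : SimplicialObject A) (n : ℕ)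
    (U' : ∀ m : ℕ, Subobject (U.obj (op (SimplexCategory.mk m))))
    (hU' : ∀ m : ℕ, IsLUB (Set.range fun φ : Idx n m => imageSubobject (genMap U φ)) (U' m))
    (m : ℕ) (hm : n < m) : U' m ⊓ NormalizedMooreComplex.objX U m = ⊥ := by
  set N := NormalizedMooreComplex.objX U m
  have h0 : (U' m).arrow ≫ PInfty.f m = 0 := lub_comp_eq_zero _ (hU' m) _ fun φ =>
    degeneracy_comp_PInfty U m φ.2 fun hmono => by
      haveI := hmono
      have h1 := SimplexCategory.len_le_of_mono φ.2
      have h2 := φ.1.isLt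
      simp only [SimplexCategory.len_mk] at h1
      omega
  have h1 : N.arrow ≫ PInfty.f m = N.arrow := by
    have := HomologicalComplex.congr_hom (inclusionOfMooreComplexMap_comp_PInfty U) m
    rwa [HomologicalComplex.comp_f, inclusionOfMooreComplexMap_f] at this
  have h2 : (U' m ⊓ N).arrow = 0 := by
    calc (U' m ⊓ N).arrow = Subobject.ofLE _ _ (inf_le_right : U' m ⊓ N ≤ N) ≫ N.arrow :=
          (Subobject.ofLE_arrow _).symm
      _ = (U' m ⊓ N).arrow ≫ PInfty.f m := by
          conv_rhs => rw [← Subobject.ofLE_arrow (inf_le_right : U' m ⊓ N ≤ N), Category.assoc, h1]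
      _ = 0 := by
          rw [← Subobject.ofLE_arrow (inf_le_left : U' m ⊓ N ≤ U' m), Category.assoc, h0, comp_zero]
  rw [← Subobject.mk_arrow (U' m ⊓ N)]
  exact Subobject.mk_eq_bot_iff_zero.2 h2

section Skeleton

variable (n : ℕ) [∀ F : (SimplexCategory.Truncated n)ᵒᵖ ⥤ A,
  (SimplexCategory.Truncated.inclusion n).op.HasLeftKanExtension F]

/-- A skeleton is generated in degrees `≤ n`, by the image of the unit. -/
theorem sk_generated (T : SimplicialObject.Truncated A n) :
    (∀ x, Epi (((SimplicialObject.skAdj n).unit.app T).app x)) ∧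
      ∀ (U' : ∀ m : ℕ, Subobject (((SimplicialObject.Truncated.sk n).obj T).obj (op (SimplexCategory.mk m)))),
        (∀ m : ℕ, IsLUB (Set.range fun φ : Idx n m =>
          imageSubobject (genMap ((SimplicialObject.Truncated.sk n).obj T) φ)) (U' m)) →
        ∀ m, U' m = ⊤ := by
  set V := (SimplicialObject.Truncated.sk n).obj T with hV
  let η : T ⟶ (SimplicialObject.truncation n).obj V := (SimplicialObject.skAdj n).unit.app T
  let ob : Fin (n + 1) → (SimplexCategory.Truncated n)ᵒᵖ := fun i =>
    op ⟨SimplexCategory.mk i, Nat.le_of_lt_succ i.isLt⟩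
  let g : ∀ {m : ℕ} (φ : Idx n m), T.obj (ob φ.1) ⟶ V.obj (op (SimplexCategory.mk m)) :=
    fun φ => η.app (ob φ.1) ≫ V.map φ.2.op
  choose W hW using fun m : ℕ => exists_lub fun φ : Idx n m => imageSubobject (g φ)
  have hst : ∀ (m m' : ℕ) (ψ : SimplexCategory.mk m' ⟶ SimplexCategory.mk m),
      (W m').Factors ((W m).arrow ≫ V.map ψ.op) := by
    intro m m' ψ
    rw [factors_iff, Category.assoc]
    refine lub_comp_eq_zero _ (hW m) _ fun φ => ?_
    rw [← Category.assoc, ← factors_iff, show g φ ≫ V.map ψ.op = g (⟨φ.1, ψ ≫ φ.2⟩ : Idx n m') by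
      show (_ ≫ V.map φ.2.op) ≫ _ = _ ≫ V.map (ψ ≫ φ.2).op
      erw [op_comp, V.map_comp, Category.assoc]]
    exact gen_factors _ (hW m') _
  obtain ⟨Z, ι, hι⟩ := exists_sub V W hst
  have hlift : ∀ x : (SimplexCategory.Truncated n)ᵒᵖ, ∃ h : T.obj x ⟶ ((SimplicialObject.truncation n).obj Z).obj x,
      h ≫ ((SimplicialObject.truncation n).map ι).app x = η.app x := by
    rintro ⟨⟨x⟩, hx⟩
    let e' : T.obj (op (⟨SimplexCategory.mk x, hx⟩ : SimplexCategory.Truncated n)) ⟶
      V.obj (op (SimplexCategory.mk x)) := η.app _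
    refine ((hι x).2 e').1 ?_
    have h := gen_factors _ (hW x) (⟨⟨x, Nat.lt_succ_of_le hx⟩, 𝟙 _⟩ : Idx n x)
    have e : g (⟨⟨x, Nat.lt_succ_of_le hx⟩, 𝟙 _⟩ : Idx n x) = η.app (op ⟨SimplexCategory.mk x, hx⟩) := by
      show η.app _ ≫ V.map (𝟙 _).op = _
      exact (congrArg (η.app (op ⟨SimplexCategory.mk x, hx⟩) ≫ ·) (V.map_id _)).trans (Category.comp_id _)
    rwa [e] at h
  choose h hh using hlift
  have hmono : ∀ x, Mono (((SimplicialObject.truncation n).map ι).app x) := by
    rintro ⟨⟨x⟩, hx⟩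
    exact (hι x).1
  let η' : T ⟶ (SimplicialObject.truncation n).obj Z :=
    { app := h
      naturality := fun x y f => by
        haveI := hmono y
        rw [← cancel_mono (((SimplicialObject.truncation n).map ι).app y), Category.assoc, hh,
          η.naturality, ← hh x, Category.assoc, Category.assoc, NatTrans.naturality] }
  have hη' : η' ≫ (SimplicialObject.truncation n).map ι = η := NatTrans.ext (funext hh)
  have hs : ((SimplicialObject.skAdj n).homEquiv T Z).symm η' ≫ ι = 𝟙 V := by
    apply ((SimplicialObject.skAdj n).homEquiv T V).injective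
    rw [Adjunction.homEquiv_naturality_right, Equiv.apply_symm_apply, hη', Adjunction.homEquiv_id]
  have htop : ∀ m, W m = ⊤ := fun m => by
    refine eq_top_of_comp_eq_id (((hι m).2 _).2 ⟨(((SimplicialObject.skAdj n).homEquiv T Z).symm η').app _, ?_⟩)
    rw [← NatTrans.comp_app, hs]
    rfl
  haveI hepi : ∀ x, Epi (η.app x) := by
    rintro ⟨⟨x⟩, hx⟩
    apply Preadditive.epi_of_cancel_zero
    intro R f hf
    have h0 : (W x).arrow ≫ f = 0 := lub_comp_eq_zero _ (hW x) _ fun φ => by
      let ψ : ob φ.1 ⟶ op (⟨SimplexCategory.mk x, hx⟩ : SimplexCategory.Truncated n) :=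
        Quiver.Hom.op (ObjectProperty.homMk φ.2)
      have e : g φ = T.map ψ ≫ η.app _ := (η.naturality ψ).symm
      rw [e]
      exact (Category.assoc _ _ _).trans ((congrArg (T.map ψ ≫ ·) hf).trans comp_zero)
    rw [htop x] at h0
    exact (cancel_epi (⊤ : Subobject (V.obj (op (SimplexCategory.mk x)))).arrow).1 (h0.trans comp_zero.symm)
  refine ⟨hepi, fun U' hU' m => ?_⟩
  apply eq_top_iff.2
  rw [← htop m]
  refine (hW m).2 ?_
  rintro _ ⟨φ, rfl⟩
  exact image_le_of_factors (Subobject.factors_of_factors_right _ (gen_factors _ (hU' m) φ))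

/-- The unit of the skeleton adjunction at a truncation is an isomorphism. -/
theorem isIso_unit_truncation (U : SimplicialObject A) :
    IsIso ((SimplicialObject.skAdj n).unit.app ((SimplicialObject.truncation n).obj U)) := by
  set η := (SimplicialObject.skAdj n).unit.app ((SimplicialObject.truncation n).obj U)
  have htri : η ≫ (SimplicialObject.truncation n).map ((SimplicialObject.skAdj n).counit.app U) =
      𝟙 ((SimplicialObject.truncation n).obj U) := (SimplicialObject.skAdj n).right_triangle_components U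
  haveI : ∀ x, IsIso (η.app x) := fun x => by
    haveI := (sk_generated n ((SimplicialObject.truncation n).obj U)).1 x
    haveI : IsSplitMono (η.app x) := ⟨⟨_, congrArg (fun t => t.app x) htri⟩⟩
    exact isIso_of_mono_of_epi _
  exact NatIso.isIso_of_isIso_app η

end Skeleton

end GrothLib.SimpGen
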